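import Groth.Prelude.Def_W4c5spincurvestfNode
import Mathlib

/-!
# The `R`-basis `…, y², y, 1, x, x², …` of `R[x, y]/(xy - π)` and the twisting sheaves on the blown-up node
-/

universe u

open SpinCurv

noncomputable section

namespace Groth.Agent.NodeAlg29

variable {R : Type u} [CommRing R] (π : R)

/-- `x ^ n` for `n ≥ 0`, `y ^ (-n)` for `n < 0`. -/
def el (n : ℤ) : PolyNodeRing R π := PolyNodeRing.x R π ^ n.toNat * PolyNodeRing.y R π ^ (-n).toNat

theorem x_mul_y : PolyNodeRing.x R π * PolyNodeRing.y R π = algebraMap R _ π := by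
  rw [← map_mul]
  exact Ideal.Quotient.eq.2 (Ideal.mem_span_singleton_self _)

theorem el_natCast (a : ℕ) : el π (a : ℤ) = PolyNodeRing.x R π ^ a := by simp [el]

theorem el_neg_natCast (a : ℕ) : el π (-(a : ℤ)) = PolyNodeRing.y R π ^ a := by simp [el]

theorem el_zero : el π 0 = 1 := by simp [el]

theorem smul_eq (c : R) (z : PolyNodeRing R π) : c • z = algebraMap R _ c * z := Algebra.smul_def c z

theorem monomial_eq (a b : ℕ) :
    PolyNodeRing.x R π ^ a * PolyNodeRing.y R π ^ b = π ^ min a b • el π ((a : ℤ) - b) := by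
  rw [smul_eq, map_pow, ← x_mul_y]
  rcases Nat.le_total a b with h | h
  · obtain ⟨c, rfl⟩ := Nat.exists_eq_add_of_le h
    rw [min_eq_left h, show ((a : ℤ) - (a + c : ℕ)) = -(c : ℤ) by push_cast; ring, el_neg_natCast]
    ring
  · obtain ⟨c, rfl⟩ := Nat.exists_eq_add_of_le h
    rw [min_eq_right h, show (((b + c : ℕ) : ℤ) - b) = (c : ℤ) by push_cast; ring, el_natCast]
    ring

def coordPoly : MvPolynomial (Fin 2) R →ₗ[R] (ℤ →₀ R) :=
  (MvPolynomial.basisMonomials (Fin 2) R).constr R
    (fun m => Finsupp.single ((m 0 : ℤ) - m 1) (π ^ min (m 0) (m 1)))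

theorem coordPoly_monomial (m : Fin 2 →₀ ℕ) (r : R) :
    coordPoly π (MvPolynomial.monomial m r) = r • Finsupp.single ((m 0 : ℤ) - m 1) (π ^ min (m 0) (m 1)) := by
  have h : MvPolynomial.monomial m r = r • MvPolynomial.basisMonomials (Fin 2) R m := by
    rw [MvPolynomial.coe_basisMonomials, MvPolynomial.smul_monomial, smul_eq_mul, mul_one]
  rw [h, map_smul, coordPoly, Module.Basis.constr_basis]

theorem coordPoly_mul_rel (f : MvPolynomial (Fin 2) R) :
    coordPoly π (f * (MvPolynomial.X 0 * MvPolynomial.X 1 - MvPolynomial.C π)) = 0 := by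
  induction f using MvPolynomial.induction_on' with
  | add f g hf hg => rw [add_mul, map_add, hf, hg, add_zero]
  | monomial m r =>
    rw [mul_sub, map_sub, MvPolynomial.X, MvPolynomial.X, MvPolynomial.monomial_mul, MvPolynomial.monomial_mul,
      MvPolynomial.C_apply, MvPolynomial.monomial_mul, coordPoly_monomial, coordPoly_monomial]
    have h0 : (m + (Finsupp.single (0 : Fin 2) 1 + Finsupp.single 1 1 : Fin 2 →₀ ℕ)) 0 = m 0 + 1 := by simp
    have h1 : (m + (Finsupp.single (0 : Fin 2) 1 + Finsupp.single 1 1 : Fin 2 →₀ ℕ)) 1 = m 1 + 1 := by simp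
    have hd : ((m 0 + 1 : ℕ) : ℤ) - ((m 1 + 1 : ℕ) : ℤ) = (m 0 : ℤ) - m 1 := by push_cast; ring
    rw [h0, h1, hd, add_zero, Nat.add_min_add_right, Finsupp.smul_single, Finsupp.smul_single, sub_eq_zero,
      smul_eq_mul, smul_eq_mul, pow_succ]
    congr 1
    ring

/-- The coordinates in the basis `el π`. -/
def coordNode : PolyNodeRing R π →ₗ[R] (ℤ →₀ R) :=
  Submodule.liftQ ((Ideal.span {(MvPolynomial.X 0 * MvPolynomial.X 1 - MvPolynomial.C π : MvPolynomial (Fin 2) R)}).restrictScalars R)
    (coordPoly π) (fun f hf => by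
      obtain ⟨g, rfl⟩ := Ideal.mem_span_singleton'.1 hf
      exact coordPoly_mul_rel π g) ∘ₗ (Submodule.Quotient.restrictScalarsEquiv R _).symm.toLinearMap

theorem coordNode_mk (f : MvPolynomial (Fin 2) R) : coordNode π (Ideal.Quotient.mk _ f) = coordPoly π f := rfl

theorem coordNode_el (n : ℤ) : coordNode π (el π n) = Finsupp.single n 1 := by
  rw [el, ← map_pow, ← map_pow, ← map_mul, coordNode_mk, MvPolynomial.X_pow_eq_monomial,
    MvPolynomial.X_pow_eq_monomial, MvPolynomial.monomial_mul, coordPoly_monomial]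
  have h0 : (Finsupp.single (0 : Fin 2) n.toNat + Finsupp.single 1 (-n).toNat : Fin 2 →₀ ℕ) 0 = n.toNat := by simp
  have h1 : (Finsupp.single (0 : Fin 2) n.toNat + Finsupp.single 1 (-n).toNat : Fin 2 →₀ ℕ) 1 = (-n).toNat := by simp
  rw [h0, h1, show min n.toNat (-n).toNat = 0 by omega, show (n.toNat : ℤ) - (-n).toNat = n by omega,
    pow_zero, Finsupp.smul_single, smul_eq_mul, mul_one, mul_one]

/-- The basis of `R[x, y]/(xy - π)`. -/
def elBasis : Module.Basis ℤ R (PolyNodeRing R π) :=
  Module.Basis.ofRepr (LinearEquiv.ofLinear (coordNode π) (Finsupp.linearCombination R (el π))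
    (Finsupp.lhom_ext fun n r => by simp [coordNode_el])
    (by
      refine LinearMap.ext fun z => ?_
      obtain ⟨f, rfl⟩ := Ideal.Quotient.mk_surjective z
      induction f using MvPolynomial.induction_on' with
      | add f g hf hg => rw [map_add, map_add, hf, hg, map_add]
      | monomial m r =>
        rw [LinearMap.comp_apply, coordNode_mk, coordPoly_monomial, map_smul, Finsupp.linearCombination_single,
          ← monomial_eq, LinearMap.id_apply, smul_eq]
        have hm : MvPolynomial.monomial m r =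
            MvPolynomial.C r * (MvPolynomial.X 0 ^ (m 0) * MvPolynomial.X 1 ^ (m 1)) := by
          rw [MvPolynomial.monomial_eq, Finsupp.prod_fintype _ _ (fun i => pow_zero _), Fin.prod_univ_two]
        rw [hm, map_mul, map_mul, map_pow, map_pow]
        rfl))

theorem elBasis_apply (n : ℤ) : elBasis π n = el π n := by
  simp [elBasis, Module.Basis.ofRepr, Module.Basis.instFunLike]

theorem elBasis_repr_el (n : ℤ) : (elBasis π).repr (el π n) = Finsupp.single n 1 := coordNode_el π n

theorem T_apply (m j : ℤ) :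
    (AddMonoidAlgebra.coeff (LaurentPolynomial.T m : LaurentPolynomial R)) j = if m = j then 1 else 0 := by
  rw [LaurentPolynomial.T, AddMonoidAlgebra.coeff_single, Finsupp.single_apply]

/-- Weight of `el π n` in the chart `(q, s, y)`. -/
def wt (π : R) (n : ℤ) : R := π ^ (-n).toNat

variable (p q : R)

section Charts

variable (gU : PolyNodeRing R q →ₐ[R] LaurentPolynomial R)
  (hgUs : gU (PolyNodeRing.x R q) = LaurentPolynomial.T 1)
  (hgUy : gU (PolyNodeRing.y R q) = LaurentPolynomial.C q * LaurentPolynomial.T (-1))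
  (gV : PolyNodeRing R p →ₐ[R] LaurentPolynomial R)
  (hgVt : gV (PolyNodeRing.x R p) = LaurentPolynomial.T (-1))
  (hgVx : gV (PolyNodeRing.y R p) = LaurentPolynomial.C p * LaurentPolynomial.T 1)

include hgUs hgUy in
theorem gU_el (j : ℤ) : gU (el q j) = wt q j • LaurentPolynomial.T j := by
  rw [el, map_mul, map_pow, map_pow, hgUs, hgUy, mul_pow, LaurentPolynomial.T_pow, LaurentPolynomial.T_pow,
    ← map_pow, LaurentPolynomial.smul_eq_C_mul, mul_left_comm, ← LaurentPolynomial.T_add]
  congr 2
  omega

include hgVt hgVx in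
theorem gV_el (i : ℤ) : gV (el p i) = wt p i • LaurentPolynomial.T (-i) := by
  rw [el, map_mul, map_pow, map_pow, hgVt, hgVx, mul_pow, LaurentPolynomial.T_pow, LaurentPolynomial.T_pow,
    ← map_pow, LaurentPolynomial.smul_eq_C_mul, mul_left_comm, ← LaurentPolynomial.T_add]
  congr 2
  omega

include hgUs hgUy in
theorem gU_apply (g : PolyNodeRing R q) (j : ℤ) :
    (AddMonoidAlgebra.coeff (gU g)) j = wt q j * (elBasis q).repr g j := by
  have hg := (elBasis q).mem_span g
  induction hg using Submodule.span_induction with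
  | mem z hz =>
    obtain ⟨i, rfl⟩ := hz
    rw [elBasis_apply, gU_el q gU hgUs hgUy, elBasis_repr_el, AddMonoidAlgebra.coeff_smul, Finsupp.smul_apply, T_apply,
      Finsupp.single_apply]
    split_ifs with h
    · subst h; simp
    · simp
  | zero => simp
  | add a b _ _ ha hb => rw [map_add, AddMonoidAlgebra.coeff_add, Finsupp.add_apply, ha, hb, map_add, Finsupp.add_apply, mul_add]
  | smul r a _ ha =>
    rw [map_smul, AddMonoidAlgebra.coeff_smul, Finsupp.smul_apply, ha, map_smul, Finsupp.smul_apply, smul_eq_mul,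
      smul_eq_mul, mul_left_comm]

include hgVt hgVx in
theorem T_gV_apply (n : ℤ) (f : PolyNodeRing R p) (j : ℤ) :
    (AddMonoidAlgebra.coeff (LaurentPolynomial.T n * gV f)) j = wt p (n - j) * (elBasis p).repr f (n - j) := by
  have hf := (elBasis p).mem_span f
  induction hf using Submodule.span_induction with
  | mem z hz =>
    obtain ⟨i, rfl⟩ := hz
    rw [elBasis_apply, gV_el p gV hgVt hgVx, elBasis_repr_el, mul_smul_comm, ← LaurentPolynomial.T_add,
      AddMonoidAlgebra.coeff_smul, Finsupp.smul_apply, T_apply, Finsupp.single_apply]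
    split_ifs with h h' h'
    · subst h'; simp
    · omega
    · omega
    · simp
  | zero => simp
  | add a b _ _ ha hb =>
    rw [map_add, mul_add, AddMonoidAlgebra.coeff_add, Finsupp.add_apply, ha, hb, map_add, Finsupp.add_apply, mul_add]
  | smul r a _ ha =>
    rw [map_smul, mul_smul_comm, AddMonoidAlgebra.coeff_smul, Finsupp.smul_apply, ha, map_smul, Finsupp.smul_apply,
      smul_eq_mul, smul_eq_mul, mul_left_comm]

include hgUs hgUy hgVt hgVx in
theorem glue_iff (n : ℤ) (g : PolyNodeRing R q) (f : PolyNodeRing R p) :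
    gU g = LaurentPolynomial.T n * gV f ↔
      ∀ j, wt q j * (elBasis q).repr g j = wt p (n - j) * (elBasis p).repr f (n - j) := by
  constructor
  · intro h j
    rw [← gU_apply q gU hgUs hgUy, h, T_gV_apply p gV hgVt hgVx]
  · intro h
    refine AddMonoidAlgebra.coeff_injective (Finsupp.ext fun j => ?_)
    rw [gU_apply q gU hgUs hgUy, h j, T_gV_apply p gV hgVt hgVx]

/-- The section of `O(n)` of degree `j`. -/
def sect (n : ℤ) : (ℤ →₀ R) →ₗ[R] PolyNodeRing R q × PolyNodeRing R p :=
  Finsupp.linearCombination R fun j =>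
    if 0 ≤ j then (wt p (n - j) • el q j, el p (n - j)) else (el q j, wt q j • el p (n - j))

theorem sect_fst (n : ℤ) (h : ℤ →₀ R) (j : ℤ) :
    (elBasis q).repr (sect p q n h).1 j = (if 0 ≤ j then wt p (n - j) else 1) * h j := by
  induction h using Finsupp.induction_linear with
  | zero => simp
  | add f g hf hg => simp [hf, hg, mul_add]
  | single i a =>
    rw [sect, Finsupp.linearCombination_single]
    by_cases hij : i = j
    · subst hij; split_ifs <;> simp [elBasis_repr_el, mul_comm]
    · split_ifs <;> simp [elBasis_repr_el, hij]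

theorem sect_snd (n : ℤ) (h : ℤ →₀ R) (j : ℤ) :
    (elBasis p).repr (sect p q n h).2 (n - j) = (if 0 ≤ j then 1 else wt q j) * h j := by
  induction h using Finsupp.induction_linear with
  | zero => simp
  | add f g hf hg => simp [hf, hg, mul_add]
  | single i a =>
    rw [sect, Finsupp.linearCombination_single]
    by_cases hij : i = j
    · subst hij; split_ifs <;> simp [elBasis_repr_el, mul_comm]
    · split_ifs <;> simp [elBasis_repr_el, hij]

theorem sect_injective (n : ℤ) : Function.Injective (sect p q n) := by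
  intro h h' e
  refine Finsupp.ext fun j => ?_
  by_cases hj : 0 ≤ j
  · simpa [sect_snd, hj] using congrArg (fun z => (elBasis p).repr z.2 (n - j)) e
  · simpa [sect_fst, hj] using congrArg (fun z => (elBasis q).repr z.1 j) e

theorem wt_nonneg (π : R) {j : ℤ} (h : 0 ≤ j) : wt π j = 1 := by
  rw [wt, show (-j).toNat = 0 by omega, pow_zero]

include hgUs hgUy hgVt hgVx in
theorem mem_range_sect_iff {n : ℤ} (hn : -1 ≤ n) (gf : PolyNodeRing R q × PolyNodeRing R p) :
    gf ∈ LinearMap.range (sect p q n) ↔ gU gf.1 = LaurentPolynomial.T n * gV gf.2 := by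
  rw [glue_iff p q gU hgUs hgUy gV hgVt hgVx]
  constructor
  · rintro ⟨h, rfl⟩ j
    rw [sect_fst, sect_snd]
    by_cases hj : 0 ≤ j
    · simp [hj, wt_nonneg q hj]
    · simp [hj, wt_nonneg p (show 0 ≤ n - j by omega)]
  · intro hgl
    let P := ((elBasis p).repr gf.2).comapDomain (fun j => n - j) (fun a _ b _ (h : n - a = n - b) => by omega)
    let h : ℤ →₀ R := P.filter (fun j => 0 ≤ j) + ((elBasis q).repr gf.1).filter (fun j => ¬ 0 ≤ j)
    have hh : ∀ j, h j = if 0 ≤ j then (elBasis p).repr gf.2 (n - j) else (elBasis q).repr gf.1 j := by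
      intro j
      simp only [h, Finsupp.add_apply, Finsupp.filter_apply]
      split_ifs <;> simp [P]
    refine ⟨h, Prod.ext ((elBasis q).ext_elem fun j => ?_) ((elBasis p).ext_elem fun i => ?_)⟩
    · rw [sect_fst, hh]
      by_cases hj : 0 ≤ j
      · simpa [hj, wt_nonneg q hj] using (hgl j).symm
      · simp [hj]
    · obtain ⟨j, rfl⟩ : ∃ j, i = n - j := ⟨n - i, by ring⟩
      rw [sect_snd, hh]
      by_cases hj : 0 ≤ j
      · simp [hj]
      · simpa [hj, wt_nonneg p (show 0 ≤ n - j by omega)] using hgl j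

include hgUs hgUy hgVt hgVx in
theorem free_ker {n : ℤ} (hn : -1 ≤ n) :
    Module.Free R (LinearMap.ker
      (gU.toLinearMap.comp (LinearMap.fst R (PolyNodeRing R q) (PolyNodeRing R p)) -
        (LinearMap.mulLeft R (LaurentPolynomial.T n)).comp
          (gV.toLinearMap.comp (LinearMap.snd R (PolyNodeRing R q) (PolyNodeRing R p))))) := by
  have h : LinearMap.range (sect p q n) = LinearMap.ker
      (gU.toLinearMap.comp (LinearMap.fst R (PolyNodeRing R q) (PolyNodeRing R p)) -
        (LinearMap.mulLeft R (LaurentPolynomial.T n)).comp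
          (gV.toLinearMap.comp (LinearMap.snd R (PolyNodeRing R q) (PolyNodeRing R p)))) := by
    ext z
    rw [mem_range_sect_iff p q gU hgUs hgUy gV hgVt hgVx hn, LinearMap.mem_ker, LinearMap.sub_apply, sub_eq_zero]
    rfl
  rw [← h]
  exact Module.Free.of_equiv (LinearEquiv.ofInjective _ (sect_injective p q n))

end Charts

end Groth.Agent.NodeAlg29
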