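import Groth.Prelude.Def_W4c5spincurvestfNode
import Mathlib

/-!
# Normal forms in `R[[x, y]]/(xy - π)`
-/

universe u

open SpinCurv

noncomputable section

namespace Groth.Agent.NodeAlg29

variable {R : Type u} [CommRing R]

/-- The exponent of `x^a y^b`. -/
def ix (a b : ℕ) : Fin 2 →₀ ℕ := Finsupp.single 0 a + Finsupp.single 1 b

@[simp] theorem ix_zero (a b : ℕ) : ix a b 0 = a := by simp [ix]
@[simp] theorem ix_one (a b : ℕ) : ix a b 1 = b := by simp [ix]

theorem ix_eta (d : Fin 2 →₀ ℕ) : ix (d 0) (d 1) = d := by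
  ext i; fin_cases i <;> simp [ix]

theorem ext_ix {f g : MvPowerSeries (Fin 2) R}
    (h : ∀ a b, MvPowerSeries.coeff (ix a b) f = MvPowerSeries.coeff (ix a b) g) : f = g :=
  MvPowerSeries.ext fun d => by rw [← ix_eta d]; exact h _ _

theorem coeff_toX (f : PowerSeries R) (a b : ℕ) :
    MvPowerSeries.coeff (ix a b) (PowerSeries.toMvPowerSeries (σ := Fin 2) 0 f) =
      if b = 0 then PowerSeries.coeff a f else 0 := by
  rw [PowerSeries.toMvPowerSeries_apply]
  split_ifs with h
  · subst h
    have : ix a 0 = Finsupp.embDomain (Function.Embedding.punit (0 : Fin 2)) (Finsupp.single () a) := by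
      rw [Finsupp.embDomain_single]; simp [ix, Function.Embedding.punit]
    rw [this]
    exact MvPowerSeries.coeff_embDomain_rename (Function.Embedding.punit (0 : Fin 2)) f _
  · refine MvPowerSeries.coeff_rename_eq_zero (fun _ => (0 : Fin 2)) f ?_
    rintro ⟨x, hx⟩
    have := DFunLike.congr_fun hx 1
    rw [ix_one, Finsupp.mapDomain_notin_range] at this
    · exact h this.symm
    · rintro ⟨y, hy⟩
      simp at hy

theorem coeff_toY (f : PowerSeries R) (a b : ℕ) :
    MvPowerSeries.coeff (ix a b) (PowerSeries.toMvPowerSeries (σ := Fin 2) 1 f) =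
      if a = 0 then PowerSeries.coeff b f else 0 := by
  rw [PowerSeries.toMvPowerSeries_apply]
  split_ifs with h
  · subst h
    have : ix 0 b = Finsupp.embDomain (Function.Embedding.punit (1 : Fin 2)) (Finsupp.single () b) := by
      rw [Finsupp.embDomain_single]; simp [ix, Function.Embedding.punit]
    rw [this]
    exact MvPowerSeries.coeff_embDomain_rename (Function.Embedding.punit (1 : Fin 2)) f _
  · refine MvPowerSeries.coeff_rename_eq_zero (fun _ => (1 : Fin 2)) f ?_
    rintro ⟨x, hx⟩
    have := DFunLike.congr_fun hx 0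
    rw [ix_zero, Finsupp.mapDomain_notin_range] at this
    · exact h this.symm
    · rintro ⟨y, hy⟩
      simp at hy

theorem coeff_xy_mul (g : MvPowerSeries (Fin 2) R) (a b : ℕ) :
    MvPowerSeries.coeff (ix a b) (MvPowerSeries.X 0 * MvPowerSeries.X 1 * g) =
      if 1 ≤ a ∧ 1 ≤ b then MvPowerSeries.coeff (ix (a - 1) (b - 1)) g else 0 := by
  have hm : (MvPowerSeries.X 0 * MvPowerSeries.X 1 : MvPowerSeries (Fin 2) R) = MvPowerSeries.monomial (ix 1 1) 1 := by
    rw [MvPowerSeries.X, MvPowerSeries.X, MvPowerSeries.monomial_mul_monomial, mul_one]; rfl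
  have hle : ix 1 1 ≤ ix a b ↔ 1 ≤ a ∧ 1 ≤ b := by
    constructor
    · intro h
      exact ⟨by simpa using h 0, by simpa using h 1⟩
    · rintro ⟨h0, h1⟩ i
      fin_cases i <;> simpa
  have hsub : ix a b - ix 1 1 = ix (a - 1) (b - 1) := by
    ext i; fin_cases i <;> simp [Finsupp.tsub_apply]
  rw [hm, MvPowerSeries.coeff_monomial_mul]
  simp [hle, hsub]

theorem mk_C (π r : R) : (Ideal.Quotient.mk _ (MvPowerSeries.C r) : NodeRing R π) = algebraMap R _ r := by
  rfl

theorem x_mul_y' (π : R) : NodeRing.x R π * NodeRing.y R π = algebraMap R _ π := by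
  rw [← map_mul]
  exact Ideal.Quotient.eq.2 (Ideal.mem_span_singleton_self _)

section Complete

variable {I : Ideal R} [IsAdicComplete I R] {π : R}

theorem exists_recursion (hπ : π ∈ I) (f : ℕ → R) : ∃ s : ℕ → R, ∀ k, s k = f k + π * s (k + 1) := by
  let S : ℕ → ℕ → R := fun k N => ∑ i ∈ Finset.range N, π ^ i * f (k + i)
  have hc : ∀ k {m n : ℕ}, m ≤ n → S k m ≡ S k n [SMOD (I ^ m • ⊤ : Submodule R R)] := by
    intro k m n h
    rw [SModEq.sub_mem, smul_eq_mul, Ideal.mul_top]
    obtain ⟨c, rfl⟩ := Nat.exists_eq_add_of_le h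
    simp only [S, Finset.sum_range_add, sub_add_cancel_left]
    exact (I ^ m).neg_mem (Ideal.sum_mem _ fun i _ =>
      Ideal.mul_mem_right _ _ (Ideal.pow_le_pow_right (Nat.le_add_right m i) (Ideal.pow_mem_pow hπ (m + i))))
  choose L hL using fun k => IsPrecomplete.prec (inferInstance : IsPrecomplete I R) (fun {m n} h => hc k h)
  refine ⟨L, fun k => sub_eq_zero.1 (IsHausdorff.haus (inferInstance : IsHausdorff I R) _ fun m => ?_)⟩
  rw [SModEq.sub_mem, sub_zero, smul_eq_mul, Ideal.mul_top]
  have h1 := SModEq.sub_mem.1 (hL k (m + 1))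
  have h2 := SModEq.sub_mem.1 (hL (k + 1) m)
  rw [smul_eq_mul, Ideal.mul_top] at h1 h2
  have hS : S k (m + 1) = f k + π * S (k + 1) m := by
    simp only [S, Finset.sum_range_succ' _ m, pow_zero, one_mul, add_zero, Finset.mul_sum]
    rw [add_comm]
    congr 1
    exact Finset.sum_congr rfl fun i _ => by rw [show k + (i + 1) = k + 1 + i by omega]; ring
  have e : L k - (f k + π * L (k + 1)) = -(S k (m + 1) - L k) + π * (S (k + 1) m - L (k + 1)) := by
    rw [hS]; ring
  rw [e]
  exact add_mem ((I ^ m).neg_mem (Ideal.pow_le_pow_right (Nat.le_succ m) h1)) (Ideal.mul_mem_left _ _ h2)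

/-- Every element is a series in `x` plus a series in `y` without constant term. -/
theorem exists_decomp (hπ : π ∈ I) (z : NodeRing R π) :
    ∃ (f h : PowerSeries R), z = NodeRing.ofX R π f + NodeRing.y R π * NodeRing.ofY R π h := by
  obtain ⟨F, rfl⟩ := Ideal.Quotient.mk_surjective z
  choose s hs using fun a b : ℕ => exists_recursion hπ (fun k => MvPowerSeries.coeff (ix (a + k + 1) (b + k + 1)) F)
  -- the series `g` with `F - (f + y h) = (xy - π) g`
  let g : MvPowerSeries (Fin 2) R := fun d => s (d 0 - min (d 0) (d 1)) (d 1 - min (d 0) (d 1)) (min (d 0) (d 1))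
  have hgc : ∀ a b, MvPowerSeries.coeff (ix a b) g = s (a - min a b) (b - min a b) (min a b) := fun a b => by
    show g (ix a b) = _
    simp [g]
  have hg : ∀ a b, MvPowerSeries.coeff (ix a b) g = MvPowerSeries.coeff (ix (a + 1) (b + 1)) F +
      π * MvPowerSeries.coeff (ix (a + 1) (b + 1)) g := by
    intro a b
    rw [hgc, hgc, hs, show a + 1 - min (a + 1) (b + 1) = a - min a b by omega,
      show b + 1 - min (a + 1) (b + 1) = b - min a b by omega, show min (a + 1) (b + 1) = min a b + 1 by omega,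
      show a - min a b + min a b + 1 = a + 1 by omega, show b - min a b + min a b + 1 = b + 1 by omega]
  refine ⟨PowerSeries.mk fun a => MvPowerSeries.coeff (ix a 0) F + π * MvPowerSeries.coeff (ix a 0) g,
    PowerSeries.mk fun b => MvPowerSeries.coeff (ix 0 (b + 1)) F + π * MvPowerSeries.coeff (ix 0 (b + 1)) g, ?_⟩
  rw [← map_mul, ← map_add]
  refine Ideal.Quotient.eq.2 (Ideal.mem_span_singleton'.2 ⟨g, ?_⟩)
  refine ext_ix fun a b => ?_
  rw [mul_comm g, sub_mul, map_sub, coeff_xy_mul, MvPowerSeries.coeff_C_mul, map_sub, map_add, coeff_toX,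
    ← PowerSeries.toMvPowerSeries_X (1 : Fin 2), ← map_mul, coeff_toY]
  rcases a with - | a <;> rcases b with - | b
  · simp
  · simp [PowerSeries.coeff_succ_X_mul]
  · simp
  · rw [if_pos (by omega), if_neg (by omega), if_neg (by omega), Nat.add_sub_cancel, Nat.add_sub_cancel, hg a b]
    ring

theorem decomp_unique (hπ : π ∈ I) (f h : PowerSeries R)
    (e : NodeRing.ofX R π f + NodeRing.y R π * NodeRing.ofY R π h = 0) : f = 0 ∧ h = 0 := by
  rw [← map_mul, ← map_add, Ideal.Quotient.eq_zero_iff_mem, Ideal.mem_span_singleton'] at e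
  obtain ⟨g, hg⟩ := e
  have key : ∀ a b, (if 1 ≤ a ∧ 1 ≤ b then MvPowerSeries.coeff (ix (a - 1) (b - 1)) g else 0) -
      π * MvPowerSeries.coeff (ix a b) g = (if b = 0 then PowerSeries.coeff a f else 0) +
        (if a = 0 then PowerSeries.coeff b (PowerSeries.X * h) else 0) := by
    intro a b
    have := congrArg (MvPowerSeries.coeff (ix a b)) hg
    rw [mul_comm g, sub_mul, map_sub, coeff_xy_mul, MvPowerSeries.coeff_C_mul, map_add, coeff_toX,
      ← PowerSeries.toMvPowerSeries_X (1 : Fin 2), ← map_mul, coeff_toY] at this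
    exact this
  have hrec : ∀ a b, MvPowerSeries.coeff (ix a b) g = π * MvPowerSeries.coeff (ix (a + 1) (b + 1)) g := fun a b => by
    have := key (a + 1) (b + 1)
    rw [if_pos (by omega), if_neg (by omega), if_neg (by omega), add_zero, sub_eq_zero] at this
    simpa using this
  have hpow : ∀ m a b, MvPowerSeries.coeff (ix a b) g ∈ I ^ m := by
    intro m
    induction m with
    | zero => intro a b; simp
    | succ m ih => intro a b; rw [hrec, pow_succ']; exact Ideal.mul_mem_mul hπ (ih _ _)
  have hg0 : ∀ a b, MvPowerSeries.coeff (ix a b) g = 0 := fun a b =>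
    IsHausdorff.haus (inferInstance : IsHausdorff I R) _ fun m => by
      rw [SModEq.sub_mem, sub_zero, smul_eq_mul, Ideal.mul_top]; exact hpow m a b
  constructor
  · ext a
    have := key a 0
    rcases a with - | a <;> simp [hg0] at this ⊢ <;> exact this.symm
  · ext b
    have := key 0 (b + 1)
    simpa [hg0, PowerSeries.coeff_succ_X_mul] using this.symm

end Complete

theorem ofX_split (π : R) (f : PowerSeries R) : ∃ f' : PowerSeries R,
    NodeRing.ofX R π f = algebraMap R _ (PowerSeries.constantCoeff f) + NodeRing.x R π * NodeRing.ofX R π f' := by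
  refine ⟨PowerSeries.mk fun n => PowerSeries.coeff (n + 1) f, ?_⟩
  conv_lhs => rw [PowerSeries.eq_X_mul_shift_add_const f]
  rw [NodeRing.ofX, map_add, map_mul, map_add, map_mul, PowerSeries.toMvPowerSeries_X, PowerSeries.toMvPowerSeries_C,
    mk_C, add_comm]

theorem ofY_split (π : R) (f : PowerSeries R) : ∃ f' : PowerSeries R,
    NodeRing.ofY R π f = algebraMap R _ (PowerSeries.constantCoeff f) + NodeRing.y R π * NodeRing.ofY R π f' := by
  refine ⟨PowerSeries.mk fun n => PowerSeries.coeff (n + 1) f, ?_⟩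
  conv_lhs => rw [PowerSeries.eq_X_mul_shift_add_const f]
  rw [NodeRing.ofY, map_add, map_mul, map_add, map_mul, PowerSeries.toMvPowerSeries_X, PowerSeries.toMvPowerSeries_C,
    mk_C, add_comm]

section Alpha

variable {I : Ideal R} [IsAdicComplete I R] {p q : R} (hπ : p * q ∈ I)

local notation "A" => NodeRing R (p * q)

/-- The span of the two obvious relations. -/
def relSpan (p q : R) : Submodule (NodeRing R (p * q)) (Fin 2 → NodeRing R (p * q)) :=
  Submodule.span _ {![algebraMap R _ p, -NodeRing.x R (p * q)], ![NodeRing.y R (p * q), -algebraMap R _ q]}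

theorem alpha_mulVec (u : Fin 2 → A) : Matrix.mulVec (SpinCurv.nodeAlpha R p q) u =
    ![NodeRing.x R (p * q) * u 0 + algebraMap R A p * u 1, algebraMap R A q * u 0 + NodeRing.y R (p * q) * u 1] := by
  rw [SpinCurv.nodeAlpha]
  funext i
  fin_cases i <;> simp [Matrix.mulVec, dotProduct, Fin.sum_univ_two]

theorem alpha_relSpan (u : Fin 2 → A) (hu : u ∈ relSpan p q) : Matrix.mulVec (SpinCurv.nodeAlpha R p q) u = 0 := by
  induction hu using Submodule.span_induction with
  | zero => simp
  | add x y _ _ hx hy => rw [Matrix.mulVec_add, hx, hy, add_zero]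
  | smul c x _ hx => rw [Matrix.mulVec_smul, hx, smul_zero]
  | mem x hx =>
    rw [Set.mem_insert_iff, Set.mem_singleton_iff] at hx
    have hxy := (x_mul_y' (p * q)).trans (map_mul (algebraMap R A) p q)
    rw [alpha_mulVec]
    rcases hx with rfl | rfl <;> funext i <;> fin_cases i <;> simp <;>
      first | ring1 | linear_combination hxy | linear_combination -hxy

include hπ in
theorem exists_reduce_pair (u : Fin 2 → A) :
    ∃ f g : PowerSeries R, u - ![NodeRing.ofX R (p * q) f, NodeRing.ofY R (p * q) g] ∈ relSpan p q := by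
  obtain ⟨fa, ha, ea⟩ := exists_decomp hπ (u 0)
  obtain ⟨fb, hb, eb⟩ := exists_decomp hπ (u 1 + algebraMap R A q * NodeRing.ofY R (p * q) ha)
  obtain ⟨fb', efb⟩ := ofX_split (p * q) fb
  refine ⟨fa + PowerSeries.C p * fb', PowerSeries.C (PowerSeries.constantCoeff fb) + PowerSeries.X * hb, ?_⟩
  have hC : ∀ r : R, NodeRing.ofX R (p * q) (PowerSeries.C r) = algebraMap R A r := fun r => by
    rw [NodeRing.ofX, PowerSeries.toMvPowerSeries_C, mk_C]
  have e0 : NodeRing.ofX R (p * q) (fa + PowerSeries.C p * fb') =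
      NodeRing.ofX R (p * q) fa + algebraMap R A p * NodeRing.ofX R (p * q) fb' := by
    rw [← hC]; simp [NodeRing.ofX, map_add, map_mul]
  have e1 : NodeRing.ofY R (p * q) (PowerSeries.C (PowerSeries.constantCoeff fb) + PowerSeries.X * hb) =
      algebraMap R A (PowerSeries.constantCoeff fb) + NodeRing.y R (p * q) * NodeRing.ofY R (p * q) hb := by
    simp only [NodeRing.ofY, map_add, map_mul, PowerSeries.toMvPowerSeries_C,
      PowerSeries.toMvPowerSeries_X, mk_C]
  have e : u - ![NodeRing.ofX R (p * q) (fa + PowerSeries.C p * fb'),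
      NodeRing.ofY R (p * q) (PowerSeries.C (PowerSeries.constantCoeff fb) + PowerSeries.X * hb)] =
      NodeRing.ofY R (p * q) ha • ![NodeRing.y R (p * q), -algebraMap R A q] +
        (-NodeRing.ofX R (p * q) fb') • ![algebraMap R A p, -NodeRing.x R (p * q)] := by
    rw [e0, e1]
    funext i
    fin_cases i <;> simp
    · linear_combination ea
    · linear_combination eb + efb
  rw [e]
  exact add_mem (Submodule.smul_mem _ _ (Submodule.subset_span (by simp)))
    (Submodule.smul_mem _ _ (Submodule.subset_span (by simp)))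

include hπ in
theorem pair_injective (f g : PowerSeries R)
    (h : Matrix.mulVec (SpinCurv.nodeAlpha R p q) ![NodeRing.ofX R (p * q) f, NodeRing.ofY R (p * q) g] = 0) :
    f = 0 ∧ g = 0 := by
  rw [alpha_mulVec] at h
  have h0 := congrFun h 0
  have h1 := congrFun h 1
  simp only [Matrix.cons_val_zero, Matrix.cons_val_one, Pi.zero_apply] at h0 h1
  obtain ⟨g', hg'⟩ := ofY_split (p * q) g
  have k0 : NodeRing.ofX R (p * q) (PowerSeries.X * f + PowerSeries.C (p * PowerSeries.constantCoeff g)) +
      NodeRing.y R (p * q) * NodeRing.ofY R (p * q) (PowerSeries.C p * g') = 0 := by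
    simp only [NodeRing.ofX, NodeRing.ofY, map_add, map_mul, PowerSeries.toMvPowerSeries_C,
      PowerSeries.toMvPowerSeries_X, mk_C]
    rw [NodeRing.ofX, NodeRing.ofY] at *
    linear_combination h0 - algebraMap R A p * hg'
  obtain ⟨hf, -⟩ := decomp_unique hπ _ _ k0
  have hf0 : f = 0 := by
    ext n
    have := congrArg (PowerSeries.coeff (n + 1)) hf
    rw [map_add, PowerSeries.coeff_succ_X_mul, PowerSeries.coeff_C, if_neg (Nat.succ_ne_zero n), add_zero, map_zero] at this
    rw [this, map_zero]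
  refine ⟨hf0, ?_⟩
  subst hf0
  have k1 : NodeRing.ofX R (p * q) 0 + NodeRing.y R (p * q) * NodeRing.ofY R (p * q) g = 0 := by
    simpa [NodeRing.ofX] using h1
  exact (decomp_unique hπ _ _ k1).2

include hπ in
theorem ker_alpha : LinearMap.ker (Matrix.mulVecLin (SpinCurv.nodeAlpha R p q)) = relSpan p q := by
  refine le_antisymm (fun u hu => ?_) (fun u hu => alpha_relSpan u hu)
  rw [LinearMap.mem_ker, Matrix.mulVecLin_apply] at hu
  obtain ⟨f, g, hfg⟩ := exists_reduce_pair hπ u
  have h := alpha_relSpan _ hfg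
  rw [Matrix.mulVec_sub, hu, zero_sub, neg_eq_zero] at h
  obtain ⟨rfl, rfl⟩ := pair_injective hπ f g h
  have e : (![NodeRing.ofX R (p * q) 0, NodeRing.ofY R (p * q) 0] : Fin 2 → A) = 0 := by
    funext i
    fin_cases i <;> simp [NodeRing.ofX, NodeRing.ofY]
  rw [e, sub_zero] at hfg
  exact hfg

include hπ in
theorem range_alpha :
    Function.Injective (fun fg : PowerSeries R × PowerSeries R =>
        Matrix.mulVec (SpinCurv.nodeAlpha R p q) ![NodeRing.ofX R (p * q) fg.1, NodeRing.ofY R (p * q) fg.2]) ∧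
    Set.range (fun fg : PowerSeries R × PowerSeries R =>
        Matrix.mulVec (SpinCurv.nodeAlpha R p q) ![NodeRing.ofX R (p * q) fg.1, NodeRing.ofY R (p * q) fg.2]) =
      Set.range (Matrix.mulVec (SpinCurv.nodeAlpha R p q)) := by
  refine ⟨fun a b hab => ?_, Set.eq_of_subset_of_subset (by rintro _ ⟨fg, rfl⟩; exact ⟨_, rfl⟩) ?_⟩
  · have h : Matrix.mulVec (SpinCurv.nodeAlpha R p q)
        ![NodeRing.ofX R (p * q) (a.1 - b.1), NodeRing.ofY R (p * q) (a.2 - b.2)] = 0 := by
      have e : (![NodeRing.ofX R (p * q) (a.1 - b.1), NodeRing.ofY R (p * q) (a.2 - b.2)] : Fin 2 → A) =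
          ![NodeRing.ofX R (p * q) a.1, NodeRing.ofY R (p * q) a.2] - ![NodeRing.ofX R (p * q) b.1, NodeRing.ofY R (p * q) b.2] := by
        funext i
        fin_cases i <;> simp [NodeRing.ofX, NodeRing.ofY, map_sub]
      rw [e, Matrix.mulVec_sub]
      exact sub_eq_zero.2 hab
    obtain ⟨h1, h2⟩ := pair_injective hπ _ _ h
    exact Prod.ext (sub_eq_zero.1 h1) (sub_eq_zero.1 h2)
  · rintro _ ⟨u, rfl⟩
    obtain ⟨f, g, hfg⟩ := exists_reduce_pair hπ u
    have h := alpha_relSpan _ hfg
    rw [Matrix.mulVec_sub, sub_eq_zero] at h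
    exact ⟨(f, g), h.symm⟩

end Alpha

section Field

variable {k : Type u} [Field k]

theorem finrank_quot (u v : ℕ) (hu : 1 ≤ u) (w : k) (hw : w ≠ 0) (hv : 1 ≤ v) :
    Module.finrank k (NodeRing k 0 ⧸
      Ideal.span {NodeRing.x k 0 ^ u, algebraMap k (NodeRing k 0) w * NodeRing.y k 0 ^ v}) = u + v - 1 := by
  let J : Ideal (NodeRing k 0) := Ideal.span {NodeRing.x k 0 ^ u, algebraMap k (NodeRing k 0) w * NodeRing.y k 0 ^ v}
  let L : MvPowerSeries (Fin 2) k →ₗ[k] NodeRing k 0 ⧸ J :=
    ((Ideal.Quotient.mkₐ k J).comp (Ideal.Quotient.mkₐ k _)).toLinearMap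
  have hLs : Function.Surjective L :=
    (Ideal.Quotient.mkₐ_surjective k J).comp (Ideal.Quotient.mkₐ_surjective k _)
  let ψ : MvPowerSeries (Fin 2) k →ₗ[k] (Fin u → k) × (Fin (v - 1) → k) :=
    (LinearMap.pi fun i : Fin u => MvPowerSeries.coeff (ix i 0)).prod
      (LinearMap.pi fun j : Fin (v - 1) => MvPowerSeries.coeff (ix 0 ((j : ℕ) + 1)))
  have hψs : Function.Surjective ψ := by
    rintro ⟨c, d⟩
    refine ⟨fun e => if h : e 1 = 0 ∧ e 0 < u then c ⟨e 0, h.2⟩ else
      if h' : e 0 = 0 ∧ 1 ≤ e 1 ∧ e 1 < v then d ⟨e 1 - 1, by omega⟩ else 0, Prod.ext ?_ ?_⟩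
    · funext i
      show (if h : ix (i : ℕ) 0 1 = 0 ∧ ix (i : ℕ) 0 0 < u then _ else _) = c i
      rw [dif_pos (by simp)]
      simp
    · funext j
      show (if h : ix 0 ((j : ℕ) + 1) 1 = 0 ∧ ix 0 ((j : ℕ) + 1) 0 < u then _ else _) = d j
      rw [dif_neg (by simp), dif_pos (by simp; omega)]
      simp
  have hpow : ∀ (i : Fin 2) (n : ℕ) (g : MvPowerSeries (Fin 2) k) (d : Fin 2 →₀ ℕ), d i < n →
      MvPowerSeries.coeff d (MvPowerSeries.X i ^ n * g) = 0 := fun i n g d h => by
    exact (MvPowerSeries.X_pow_dvd_iff.1 (dvd_mul_right _ g)) d h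
  have hker : LinearMap.ker L = LinearMap.ker ψ := by
    ext F
    simp only [LinearMap.mem_ker]
    constructor
    · intro hF
      have h1 : (Ideal.Quotient.mk _ F : NodeRing k 0) ∈ J := Ideal.Quotient.eq_zero_iff_mem.1 hF
      obtain ⟨a, b, hab⟩ := Ideal.mem_span_pair.1 h1
      obtain ⟨a, rfl⟩ := Ideal.Quotient.mk_surjective a
      obtain ⟨b, rfl⟩ := Ideal.Quotient.mk_surjective b
      rw [← mk_C, ← map_pow, ← map_pow, ← map_mul, ← map_mul, ← map_mul, ← map_add, eq_comm,
        Ideal.Quotient.eq, Ideal.mem_span_singleton'] at hab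
      obtain ⟨g, hg⟩ := hab
      have hF' : F = g * (MvPowerSeries.X 0 * MvPowerSeries.X 1) +
          (a * MvPowerSeries.X 0 ^ u + b * (MvPowerSeries.C w * MvPowerSeries.X 1 ^ v)) := by
        rw [RingHom.map_zero, sub_zero] at hg
        linear_combination -hg
      refine Prod.ext (funext fun i => ?_) (funext fun j => ?_)
      · show MvPowerSeries.coeff (ix i 0) F = 0
        rw [hF', map_add, map_add, mul_comm g, coeff_xy_mul, if_neg (by omega), zero_add, mul_comm a,
          hpow 0 u a _ (by simp), zero_add, ← mul_assoc, mul_comm, hpow 1 v _ _ (by simp; omega)]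
      · show MvPowerSeries.coeff (ix 0 ((j : ℕ) + 1)) F = 0
        rw [hF', map_add, map_add, mul_comm g, coeff_xy_mul, if_neg (by omega), zero_add, mul_comm a,
          hpow 0 u a _ (by simp; omega), zero_add, ← mul_assoc, mul_comm, hpow 1 v _ _ (by simp; omega)]
    · intro hF
      have h0 : ∀ i, i < u → MvPowerSeries.coeff (ix i 0) F = 0 := fun i hi => congrFun (congrArg Prod.fst hF) ⟨i, hi⟩
      have h1 : ∀ j, j + 1 < v → MvPowerSeries.coeff (ix 0 (j + 1)) F = 0 := fun j hj =>
        congrFun (congrArg Prod.snd hF) ⟨j, by omega⟩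
      let g : MvPowerSeries (Fin 2) k := fun e => MvPowerSeries.coeff (ix (e 0 + 1) (e 1 + 1)) F
      have hgc : ∀ a b, MvPowerSeries.coeff (ix a b) g = MvPowerSeries.coeff (ix (a + 1) (b + 1)) F := fun a b => by
        show g (ix a b) = _
        simp [g]
      let G : MvPowerSeries (Fin 2) k := fun e => if e 1 = 0 then MvPowerSeries.coeff e F else 0
      let H : MvPowerSeries (Fin 2) k := fun e => if e 0 = 0 ∧ e 1 ≠ 0 then MvPowerSeries.coeff e F else 0
      have hGc : ∀ a b, MvPowerSeries.coeff (ix a b) G = if b = 0 then MvPowerSeries.coeff (ix a b) F else 0 := fun a b => by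
        show G (ix a b) = _
        simp [G]
      have hHc : ∀ a b, MvPowerSeries.coeff (ix a b) H = if a = 0 ∧ b ≠ 0 then MvPowerSeries.coeff (ix a b) F else 0 := fun a b => by
        show H (ix a b) = _
        simp [H]
      have hsplit : F = MvPowerSeries.X 0 * MvPowerSeries.X 1 * g + (G + H) := by
        refine ext_ix fun a b => ?_
        rw [map_add, map_add, coeff_xy_mul, hGc, hHc]
        rcases a with - | a <;> rcases b with - | b <;> simp [hgc]
      obtain ⟨G', hG'⟩ : MvPowerSeries.X (0 : Fin 2) ^ u ∣ G := MvPowerSeries.X_pow_dvd_iff.2 fun d hd => by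
        rw [← ix_eta d, hGc]
        split_ifs with h
        · rw [h]; exact h0 _ hd
        · rfl
      obtain ⟨H', hH'⟩ : MvPowerSeries.X (1 : Fin 2) ^ v ∣ H := MvPowerSeries.X_pow_dvd_iff.2 fun d hd => by
        rw [← ix_eta d, hHc]
        split_ifs with h
        · rw [h.1, show d 1 = d 1 - 1 + 1 by omega]; exact h1 _ (by omega)
        · rfl
      have hx : (Ideal.Quotient.mk _ (MvPowerSeries.X 0 * MvPowerSeries.X 1 * g) : NodeRing k 0) = 0 := by
        rw [map_mul, map_mul]
        exact mul_eq_zero_of_left ((x_mul_y' 0).trans (RingHom.map_zero _)) _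
      refine Ideal.Quotient.eq_zero_iff_mem.2 ?_
      show (Ideal.Quotient.mk _ F : NodeRing k 0) ∈ J
      have hy : NodeRing.y k 0 ^ v ∈ J := by
        have hm : algebraMap k (NodeRing k 0) w⁻¹ * (algebraMap k (NodeRing k 0) w * NodeRing.y k 0 ^ v) ∈ J :=
          J.mul_mem_left _ (Ideal.subset_span (by simp))
        rwa [← mul_assoc, ← map_mul (algebraMap k (NodeRing k 0)), inv_mul_cancel₀ hw,
          RingHom.map_one (algebraMap k (NodeRing k 0)), one_mul] at hm
      rw [hsplit, map_add, hx, zero_add, map_add, hG', hH', map_mul, map_mul, map_pow, map_pow]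
      exact add_mem (Ideal.mul_mem_right _ _ (Ideal.subset_span (by simp))) (Ideal.mul_mem_right _ _ hy)
  have e := ((L.quotKerEquivOfSurjective hLs).symm.trans (Submodule.quotEquivOfEq _ _ hker)).trans
    (ψ.quotKerEquivOfSurjective hψs)
  show Module.finrank k (NodeRing k 0 ⧸ J) = _
  rw [e.finrank_eq, Module.finrank_prod, Module.finrank_fin_fun, Module.finrank_fin_fun]
  omega

end Field

end Groth.Agent.NodeAlg29
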