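import Groth.Agent.NodeAlg29.Poly

/-!
# Global sections of `O(n)` on the blown-up node
-/

universe u

open SpinCurv

noncomputable section

namespace Groth.Agent.NodeAlg29

variable {R : Type u} [CommRing R] (p q : R)

/-- The preimage in `A^(n+1)` of `sect p q n`. -/
def lift' (n : ℕ) : (ℤ →₀ R) →ₗ[R] (Fin (n + 1) → PolyNodeRing R (p * q)) :=
  Finsupp.linearCombination R fun j =>
    if j < 0 then Pi.single (Fin.last n) (el (p * q) j)
    else if h : j.toNat ≤ n then Pi.single (⟨n - j.toNat, by omega⟩ : Fin (n + 1)) 1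
    else Pi.single 0 (el (p * q) (j - n))

section

variable
    (rU : PolyNodeRing R (p * q) →ₐ[R] PolyNodeRing R q)
    (hrUx : rU (PolyNodeRing.x R (p * q)) = algebraMap R _ p * PolyNodeRing.x R q)
    (hrUy : rU (PolyNodeRing.y R (p * q)) = PolyNodeRing.y R q)
    (rV : PolyNodeRing R (p * q) →ₐ[R] PolyNodeRing R p)
    (hrVx : rV (PolyNodeRing.x R (p * q)) = PolyNodeRing.y R p)
    (hrVy : rV (PolyNodeRing.y R (p * q)) = algebraMap R _ q * PolyNodeRing.x R p)

include hrUx hrUy in
theorem rU_el (m : ℤ) : rU (el (p * q) m) = p ^ m.toNat • el q m := by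
  rw [el, el, map_mul, map_pow, map_pow, hrUx, hrUy, mul_pow, smul_eq, map_pow, mul_assoc]

include hrVx hrVy in
theorem rV_el (m : ℤ) : rV (el (p * q) m) = q ^ (-m).toNat • el p (-m) := by
  rw [el, el, map_mul, map_pow, map_pow, hrVx, hrVy, mul_pow, smul_eq, map_pow, neg_neg]
  ring

/-- The map `F ↦ (∑ F_i|_U s^(n-i), ∑ F_i|_V t^i)`. -/
def toPair (n : ℕ) : (Fin (n + 1) → PolyNodeRing R (p * q)) →ₗ[R] PolyNodeRing R q × PolyNodeRing R p :=
  (∑ i : Fin (n + 1), (LinearMap.mulRight R (PolyNodeRing.x R q ^ (n - (i : ℕ)))) ∘ₗ rU.toLinearMap ∘ₗ LinearMap.proj i).prod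
    (∑ i : Fin (n + 1), (LinearMap.mulRight R (PolyNodeRing.x R p ^ (i : ℕ))) ∘ₗ rV.toLinearMap ∘ₗ LinearMap.proj i)

theorem toPair_apply (n : ℕ) (F : Fin (n + 1) → PolyNodeRing R (p * q)) :
    toPair p q rU rV n F = (∑ i : Fin (n + 1), rU (F i) * PolyNodeRing.x R q ^ (n - (i : ℕ)),
      ∑ i : Fin (n + 1), rV (F i) * PolyNodeRing.x R p ^ (i : ℕ)) := by
  simp [toPair]

theorem toPair_single (n : ℕ) (i : Fin (n + 1)) (a : PolyNodeRing R (p * q)) :
    toPair p q rU rV n (Pi.single i a) = (rU a * PolyNodeRing.x R q ^ (n - (i : ℕ)), rV a * PolyNodeRing.x R p ^ (i : ℕ)) := by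
  rw [toPair_apply]
  congr 1
  · rw [Finset.sum_eq_single i (fun b _ hb => by simp [Pi.single_eq_of_ne hb]) (by simp)]; simp
  · rw [Finset.sum_eq_single i (fun b _ hb => by simp [Pi.single_eq_of_ne hb]) (by simp)]; simp

include hrUx hrUy hrVx hrVy in
theorem toPair_lift' (n : ℕ) : (toPair p q rU rV n) ∘ₗ (lift' p q n) = sect p q (n : ℤ) := by
  refine Finsupp.lhom_ext fun j r => ?_
  rw [LinearMap.comp_apply, lift', sect, Finsupp.linearCombination_single, Finsupp.linearCombination_single, map_smul]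
  congr 1
  by_cases hj : j < 0
  · rw [if_pos hj, if_neg (by omega), toPair_single, rU_el p q rU hrUx hrUy, rV_el p q rV hrVx hrVy, Fin.val_last,
      Nat.sub_self, pow_zero, mul_one, show j.toNat = 0 by omega, pow_zero, one_smul]
    refine Prod.ext rfl ?_
    show q ^ (-j).toNat • el p (-j) * PolyNodeRing.x R p ^ n = wt q j • el p ((n : ℤ) - j)
    rw [smul_mul_assoc, wt]
    congr 1
    rw [el, el, show (- -j).toNat = 0 by omega, show (-((n : ℤ) - j)).toNat = 0 by omega,
      show ((n : ℤ) - j).toNat = (-j).toNat + n by omega]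
    ring
  · rw [if_neg hj, if_pos (by omega)]
    split_ifs with h
    · rw [toPair_single, map_one, map_one, one_mul, one_mul, wt_nonneg p (by omega), one_smul]
      refine Prod.ext ?_ ?_
      · show PolyNodeRing.x R q ^ (n - (n - j.toNat)) = el q j
        rw [el, show n - (n - j.toNat) = j.toNat by omega, show (-j).toNat = 0 by omega, pow_zero, mul_one]
      · show PolyNodeRing.x R p ^ (n - j.toNat) = el p ((n : ℤ) - j)
        rw [el, show ((n : ℤ) - j).toNat = n - j.toNat by omega, show (-((n : ℤ) - j)).toNat = 0 by omega, pow_zero, mul_one]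
    · rw [toPair_single, rU_el p q rU hrUx hrUy, rV_el p q rV hrVx hrVy]
      refine Prod.ext ?_ ?_
      · show p ^ (j - n).toNat • el q (j - n) * PolyNodeRing.x R q ^ (n - 0) = wt p ((n : ℤ) - j) • el q j
        rw [smul_mul_assoc, wt, show (-((n : ℤ) - j)).toNat = (j - n).toNat by omega, Nat.sub_zero]
        congr 1
        rw [el, el, show (-(j - n : ℤ)).toNat = 0 by omega, show (-j).toNat = 0 by omega,
          show j.toNat = (j - n).toNat + n by omega]
        ring
      · show q ^ (-(j - n : ℤ)).toNat • el p (-(j - n : ℤ)) * PolyNodeRing.x R p ^ 0 = el p ((n : ℤ) - j)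
        rw [show (-(j - n : ℤ)).toNat = 0 by omega, pow_zero, one_smul, pow_zero, mul_one, neg_sub]

/-- The module of relations. -/
def rel (n : ℕ) : Submodule (PolyNodeRing R (p * q)) (Fin (n + 1) → PolyNodeRing R (p * q)) :=
  Submodule.span (PolyNodeRing R (p * q))
    (Set.range (fun i : Fin n =>
        (Pi.single (Fin.castSucc i) (algebraMap R (PolyNodeRing R (p * q)) p) -
          Pi.single (Fin.succ i) (PolyNodeRing.x R (p * q)) : Fin (n + 1) → PolyNodeRing R (p * q))) ∪
     Set.range (fun i : Fin n =>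
        (Pi.single (Fin.castSucc i) (PolyNodeRing.y R (p * q)) -
          Pi.single (Fin.succ i) (algebraMap R (PolyNodeRing R (p * q)) q) : Fin (n + 1) → PolyNodeRing R (p * q))))

include hrUx hrUy hrVx hrVy in
theorem rel_le_ker (n : ℕ) (F : Fin (n + 1) → PolyNodeRing R (p * q)) (hF : F ∈ rel p q n) :
    toPair p q rU rV n F = 0 := by
  suffices H : ∀ a : PolyNodeRing R (p * q), toPair p q rU rV n (a • F) = 0 by simpa using H 1
  induction hF using Submodule.span_induction with
  | zero => intro a; simp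
  | add x y _ _ hx hy => intro a; rw [smul_add, map_add, hx, hy, add_zero]
  | smul c x _ hx => intro a; rw [smul_smul]; exact hx _
  | mem G hG =>
    intro a
    obtain ⟨i, rfl⟩ | ⟨i, rfl⟩ := hG <;>
      rw [smul_sub, ← Pi.single_smul, ← Pi.single_smul, map_sub, toPair_single, toPair_single, Prod.mk_sub_mk,
        Fin.val_succ, Fin.val_castSucc, smul_eq_mul, smul_eq_mul, map_mul rU, map_mul rU, map_mul rV, map_mul rV,
        AlgHom.commutes, AlgHom.commutes, show n - (i : ℕ) = n - ((i : ℕ) + 1) + 1 by omega]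
    · rw [hrUx, hrVx, pow_succ, pow_succ, ← x_mul_y p]
      exact Prod.ext (by show _ = (0 : PolyNodeRing R q); ring) (by show _ = (0 : PolyNodeRing R p); ring)
    · rw [hrUy, hrVy, pow_succ, pow_succ, ← x_mul_y q]
      exact Prod.ext (by show _ = (0 : PolyNodeRing R q); ring) (by show _ = (0 : PolyNodeRing R p); ring)

theorem exists_reduce (n : ℕ) (F : Fin (n + 1) → PolyNodeRing R (p * q)) :
    F ∈ (rel p q n).restrictScalars R ⊔ LinearMap.range (lift' p q n) := by
  set M := (rel p q n).restrictScalars R ⊔ LinearMap.range (lift' p q n) with hM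
  have hL : ∀ j : ℤ, (lift' p q n) (Finsupp.single j 1) ∈ M := fun j => Submodule.mem_sup_right ⟨_, rfl⟩
  have hS : ∀ x ∈ rel p q n, x ∈ M := fun x hx => Submodule.mem_sup_left hx
  have hmid : ∀ i : Fin (n + 1), Pi.single i (1 : PolyNodeRing R (p * q)) ∈ M := by
    intro i
    have h := hL ((n - (i : ℕ) : ℕ) : ℤ)
    rw [lift', Finsupp.linearCombination_single, one_smul, if_neg (by omega), dif_pos (by omega)] at h
    convert h using 2
    ext; simp; omega
  -- powers of `x`
  have hx : ∀ (i : ℕ) (hi : i < n + 1) (a : ℕ),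
      Pi.single (⟨i, hi⟩ : Fin (n + 1)) (PolyNodeRing.x R (p * q) ^ a) ∈ M := by
    intro i
    induction i with
    | zero =>
      intro hi a
      rcases a with - | a
      · simpa using hmid ⟨0, hi⟩
      · have h := hL ((n + (a + 1) : ℕ) : ℤ)
        rw [lift', Finsupp.linearCombination_single, one_smul, if_neg (by omega), dif_neg (by omega),
          show ((n + (a + 1) : ℕ) : ℤ) - n = ((a + 1 : ℕ) : ℤ) by push_cast; ring, el_natCast] at h
        exact h
    | succ i ih =>
      intro hi a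
      rcases a with - | a
      · simpa using hmid ⟨i + 1, hi⟩
      · have hr : (PolyNodeRing.x R (p * q) ^ a) • (Pi.single (Fin.castSucc (⟨i, by omega⟩ : Fin n)) (algebraMap R (PolyNodeRing R (p * q)) p) -
            Pi.single (Fin.succ (⟨i, by omega⟩ : Fin n)) (PolyNodeRing.x R (p * q)) : Fin (n + 1) → PolyNodeRing R (p * q)) ∈ M :=
          hS _ (Submodule.smul_mem (rel p q n) _ (Submodule.subset_span (Or.inl ⟨_, rfl⟩)))
        have h1 := M.sub_mem (M.smul_mem p (ih (by omega) a)) hr
        rw [smul_sub, ← Pi.single_smul, ← Pi.single_smul, ← Pi.single_smul, smul_eq_mul, smul_eq_mul, smul_eq,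
          mul_comm (algebraMap R _ p), ← pow_succ] at h1
        convert h1 using 1
        rw [show ((⟨i, by omega⟩ : Fin n).castSucc) = (⟨i, by omega⟩ : Fin (n + 1)) from rfl,
          show ((⟨i, by omega⟩ : Fin n).succ) = (⟨i + 1, hi⟩ : Fin (n + 1)) from rfl]
        abel
  -- powers of `y`
  have hy : ∀ (d : ℕ) (hd : d ≤ n) (a : ℕ),
      Pi.single (⟨n - d, by omega⟩ : Fin (n + 1)) (PolyNodeRing.y R (p * q) ^ a) ∈ M := by
    intro d
    induction d with
    | zero =>
      intro hd a
      rcases a with - | a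
      · simpa using hmid ⟨n - 0, by omega⟩
      · have h := hL (-((a + 1 : ℕ) : ℤ))
        rw [lift', Finsupp.linearCombination_single, one_smul, if_pos (by omega), el_neg_natCast] at h
        exact h
    | succ d ih =>
      intro hd a
      rcases a with - | a
      · simpa using hmid ⟨n - (d + 1), by omega⟩
      · have hr : (PolyNodeRing.y R (p * q) ^ a) • (Pi.single (Fin.castSucc (⟨n - (d + 1), by omega⟩ : Fin n)) (PolyNodeRing.y R (p * q)) -
            Pi.single (Fin.succ (⟨n - (d + 1), by omega⟩ : Fin n)) (algebraMap R (PolyNodeRing R (p * q)) q) : Fin (n + 1) → PolyNodeRing R (p * q)) ∈ M :=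
          hS _ (Submodule.smul_mem (rel p q n) _ (Submodule.subset_span (Or.inr ⟨_, rfl⟩)))
        have h1 := M.add_mem (M.smul_mem q (ih (by omega) a)) hr
        rw [smul_sub, ← Pi.single_smul, ← Pi.single_smul, ← Pi.single_smul, smul_eq_mul, smul_eq_mul, smul_eq,
          mul_comm (algebraMap R _ q), ← pow_succ] at h1
        convert h1 using 1
        rw [show ((⟨n - (d + 1), by omega⟩ : Fin n).castSucc) = (⟨n - (d + 1), by omega⟩ : Fin (n + 1)) from rfl,
          show ((⟨n - (d + 1), by omega⟩ : Fin n).succ) = (⟨n - d, by omega⟩ : Fin (n + 1)) from Fin.ext (by simp; omega)]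
        abel
  rw [← Finset.univ_sum_single F]
  refine Submodule.sum_mem _ fun i _ => ?_
  have key : ∀ m : ℤ, Pi.single i (el (p * q) m) ∈ M := by
    intro m
    rcases le_or_gt 0 m with h | h
    · obtain ⟨a, rfl⟩ := Int.eq_ofNat_of_zero_le h
      rw [el_natCast]
      exact hx i i.isLt a
    · obtain ⟨a, rfl⟩ : ∃ a : ℕ, m = -(a : ℤ) := ⟨(-m).toNat, by omega⟩
      rw [el_neg_natCast]
      convert hy (n - (i : ℕ)) (by omega) a using 2
      ext; simp; omega
  have hz := (elBasis (p * q)).mem_span (F i)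
  generalize F i = z at hz ⊢
  induction hz using Submodule.span_induction with
  | mem z hz => obtain ⟨m, rfl⟩ := hz; rw [elBasis_apply]; exact key m
  | zero => simp
  | add a b _ _ ha hb => rw [Pi.single_add]; exact M.add_mem ha hb
  | smul r a _ ha => rw [Pi.single_smul]; exact M.smul_mem r ha

variable
    (gU : PolyNodeRing R q →ₐ[R] LaurentPolynomial R)
    (hgUs : gU (PolyNodeRing.x R q) = LaurentPolynomial.T 1)
    (hgUy : gU (PolyNodeRing.y R q) = LaurentPolynomial.C q * LaurentPolynomial.T (-1))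
    (gV : PolyNodeRing R p →ₐ[R] LaurentPolynomial R)
    (hgVt : gV (PolyNodeRing.x R p) = LaurentPolynomial.T (-1))
    (hgVx : gV (PolyNodeRing.y R p) = LaurentPolynomial.C p * LaurentPolynomial.T 1)

include hrUx hrUy hrVx hrVy hgUs hgUy hgVt hgVx in
theorem main (n : ℕ) :
    Set.range (fun F : Fin (n + 1) → PolyNodeRing R (p * q) =>
        (∑ i : Fin (n + 1), rU (F i) * PolyNodeRing.x R q ^ (n - (i : ℕ)),
         ∑ i : Fin (n + 1), rV (F i) * PolyNodeRing.x R p ^ (i : ℕ))) =
      {gf : PolyNodeRing R q × PolyNodeRing R p | gU gf.1 = LaurentPolynomial.T (n : ℤ) * gV gf.2} ∧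
    {F : Fin (n + 1) → PolyNodeRing R (p * q) |
        (∑ i : Fin (n + 1), rU (F i) * PolyNodeRing.x R q ^ (n - (i : ℕ)),
         ∑ i : Fin (n + 1), rV (F i) * PolyNodeRing.x R p ^ (i : ℕ)) = 0} = (rel p q n : Set _) := by
  have hdec : ∀ F, ∃ h, toPair p q rU rV n F = sect p q (n : ℤ) h ∧ (h = 0 → F ∈ rel p q n) := by
    intro F
    obtain ⟨s, hs, t, ⟨h, rfl⟩, rfl⟩ := Submodule.mem_sup.1 (exists_reduce p q n F)
    refine ⟨h, ?_, fun h0 => by rw [h0, map_zero, add_zero]; exact hs⟩
    rw [map_add, rel_le_ker p q rU hrUx hrUy rV hrVx hrVy n s hs, zero_add,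
      ← toPair_lift' p q rU hrUx hrUy rV hrVx hrVy n]
    rfl
  simp only [← toPair_apply p q rU rV n]
  constructor
  · refine Set.eq_of_subset_of_subset ?_ ?_
    · rintro _ ⟨F, rfl⟩
      obtain ⟨h, hh, -⟩ := hdec F
      exact (mem_range_sect_iff p q gU hgUs hgUy gV hgVt hgVx (by omega) _).1 ⟨h, hh.symm⟩
    · intro gf hgf
      obtain ⟨h, rfl⟩ := (mem_range_sect_iff p q gU hgUs hgUy gV hgVt hgVx (by omega) gf).2 hgf
      exact ⟨lift' p q n h, LinearMap.congr_fun (toPair_lift' p q rU hrUx hrUy rV hrVx hrVy n) h⟩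
  · refine Set.eq_of_subset_of_subset ?_ ?_
    · intro F hF
      obtain ⟨h, hh, hmem⟩ := hdec F
      exact hmem (sect_injective p q _ ((hh.symm.trans hF).trans (map_zero _).symm))
    · intro F hF
      exact rel_le_ker p q rU hrUx hrUy rV hrVx hrVy n F hF

end

theorem torsionFree_field {k : Type u} [Field k]
    (gU : PolyNodeRing k 0 →ₐ[k] LaurentPolynomial k) (hgUs : gU (PolyNodeRing.x k 0) = LaurentPolynomial.T 1)
    (hgUy : gU (PolyNodeRing.y k 0) = 0)
    (gV : PolyNodeRing k 0 →ₐ[k] LaurentPolynomial k) (hgVt : gV (PolyNodeRing.x k 0) = LaurentPolynomial.T (-1))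
    (hgVx : gV (PolyNodeRing.y k 0) = 0)
    (g f : PolyNodeRing k 0) (hsec : gU g = LaurentPolynomial.T 1 * gV f)
    (hg : PolyNodeRing.y k 0 * g = 0) (hf : PolyNodeRing.y k 0 * f = 0) : g = 0 ∧ f = 0 := by
  have hmul : ∀ (z : PolyNodeRing k 0) (i : ℤ), i ≤ 0 →
      (elBasis (0 : k)).repr (PolyNodeRing.y k 0 * z) (i - 1) = (elBasis (0 : k)).repr z i := by
    intro z i hi
    have hz := (elBasis (0 : k)).mem_span z
    induction hz using Submodule.span_induction with
    | mem z hz =>
      obtain ⟨m, rfl⟩ := hz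
      rw [elBasis_apply]
      rcases le_or_gt m 0 with h | h
      · have : PolyNodeRing.y k 0 * el (0 : k) m = el (0 : k) (m - 1) := by
          rw [el, el, show m.toNat = 0 by omega, show (m - 1).toNat = 0 by omega,
            show (-(m - 1)).toNat = (-m).toNat + 1 by omega]
          ring
        rw [this, elBasis_repr_el, elBasis_repr_el, Finsupp.single_apply, Finsupp.single_apply]
        congr 1
        simp
      · have : PolyNodeRing.y k 0 * el (0 : k) m = 0 := by
          rw [el, show m.toNat = (m - 1).toNat + 1 by omega, pow_succ]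
          calc _ = PolyNodeRing.x k 0 * PolyNodeRing.y k 0 * (PolyNodeRing.x k 0 ^ (m-1).toNat * PolyNodeRing.y k 0 ^ (-m).toNat) := by ring
            _ = 0 := by rw [x_mul_y]; exact mul_eq_zero_of_left (RingHom.map_zero _) _
        rw [this, elBasis_repr_el, Finsupp.single_apply, if_neg (by omega)]
        simp
    | zero => simp
    | add a b _ _ ha hb => rw [mul_add, map_add, map_add, Finsupp.add_apply, Finsupp.add_apply, ha, hb]
    | smul r a _ ha => rw [mul_smul_comm, map_smul, map_smul, Finsupp.smul_apply, Finsupp.smul_apply, ha]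
  have hg0 : ∀ i ≤ 0, (elBasis (0 : k)).repr g i = 0 := fun i hi => by rw [← hmul g i hi, hg]; simp
  have hf0 : ∀ i ≤ 0, (elBasis (0 : k)).repr f i = 0 := fun i hi => by rw [← hmul f i hi, hf]; simp
  have hgl := (glue_iff (0 : k) 0 gU hgUs (by rw [hgUy, map_zero, zero_mul]) gV hgVt
    (by rw [hgVx, map_zero, zero_mul]) 1 g f).1 hsec
  constructor <;> refine (elBasis (0 : k)).ext_elem fun i => ?_ <;> rw [LinearEquiv.map_zero, Finsupp.coe_zero, Pi.zero_apply]
  · rcases le_or_gt i 0 with h | h
    · exact hg0 i h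
    · have := hgl i
      rw [wt_nonneg _ (by omega), one_mul, hf0 _ (by omega), mul_zero] at this
      exact this
  · rcases le_or_gt i 0 with h | h
    · exact hf0 i h
    · have := hgl (1 - i)
      rw [hg0 _ (by omega), mul_zero, sub_sub_cancel, wt_nonneg _ (by omega), one_mul] at this
      exact this.symm

end Groth.Agent.NodeAlg29
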